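/-
Hiramine's theorem, part I: the strongly closed case.
-/
import Cfsg.Agent.Hir.H
import Cfsg.Agent.JR.Gs
import Cfsg.Agent.Ab2.LYp
set_option autoImplicit false
set_option linter.unusedSectionVars false

namespace CF.Hir
open Subgroup MulAction Cfsg CF.BG CF.Sig CF.GW CF.Ab2
open scoped commutatorElement

universe u
variable {G : Type u} {Ω : Type*} [Group G] [Finite G] [MulAction G Ω] [Finite Ω] {N : Ω → Subgroup G}
variable {A B D D' E K L L' M P P' Q R S S' T U V W X Y Z : Subgroup G}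
variable {d d' g h k s t u v w w' x y z z' : G} {a b c e p : Ω}

local notation "𝐒" => MulAction.stabilizer G

theorem dcount {α β : Type*} [Finite α] [Finite β] {s : Set α} {t : Set β} (r : α → β → Prop)
    {m n : ℕ} (hm : ∀ a ∈ s, {b | b ∈ t ∧ r a b}.ncard = m)
    (hn : ∀ b ∈ t, {a | a ∈ s ∧ r a b}.ncard = n) : s.ncard * m = t.ncard * n := by
  classical
  rw [Set.ncard_eq_toFinset_card s, Set.ncard_eq_toFinset_card t]
  refine Finset.card_mul_eq_card_mul r (fun a ha => ?_) fun b hb => ?_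
  · rw [← hm a (by simpa using ha), ← Set.ncard_coe_finset]
    congr 1; ext; simp
  · rw [← hn b (by simpa using hb), ← Set.ncard_coe_finset]
    congr 1; ext; simp

theorem card_iv (r : RS L Q D w z) :
    {x | x ∈ L ∧ Iv x}.ncard = (♯Q + 1) * (♯(𝛀 2 Q) - 1) := by
  rw [← BG.ncard_diff_one (𝛀 2 Q), ← Finite.card_option, ← Nat.card_coe_set_eq,
    ← Nat.card_coe_set_eq, ← Nat.card_prod]
  let φ : Option Q → G := fun o => o.elim 1 fun q => q * w
  have m : ∀ o, φ o ∈ L := by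
    rintro (_ | q)
    exacts [one_mem _, mul_mem (r.syl.le q.2) r.wL]
  have i : ∀ o o', cj (φ o) Q = cj (φ o') Q → o = o' := by
    have k : ∀ q : Q, cj (q * w) Q ≠ cj 1 Q := fun q e => r.wne (by
      rwa [cj_one, ← cj_cj, cj_eq_iff, cj_of_mem (inv_mem q.2)] at e)
    rintro (_ | q) (_ | q') e
    · rfl
    · exact (k _ e.symm).elim
    · exact (k _ e).elim
    · rw [Subtype.ext (inv_mul_eq_one.1 (r.one_of_norm (mul_mem (inv_mem q.2) q'.2)
        (cj_eq_self.1 (by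
          change cj (q * w) Q = cj (q' * w) Q at e
          rw [← cj_cj, ← cj_cj] at e
          rw [← cj_cj, ← e, cj_inv_cj]))))]
  symm
  refine Nat.card_eq_of_bijective (fun x => ⟨φ x.1 * x.2 * (φ x.1)⁻¹, cmem (m _)
    (r.syl.le (Om_le _ _ x.2.2.1)), (ab_iv r.ab x.2.2.1 x.2.2.2).conj _⟩) ⟨?_, ?_⟩
  · rintro ⟨o, u, hu⟩ ⟨o', v, hv⟩ e
    have e : φ o * u * (φ o)⁻¹ = φ o' * v * (φ o')⁻¹ := congrArg Subtype.val e
    obtain rfl := i o o' (r.hti (r.syl.cj_of_mem (m o)) (r.syl.cj_of_mem (m o'))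
      (conj_mem_cj.2 (Om_le _ _ hu.1)) (conj_ne_one hu.2 _)
      (le_norm_self _ (e ▸ conj_mem_cj.2 (Om_le _ _ hv.1))))
    obtain rfl : u = v := by simpa using e
    rfl
  · rintro ⟨x, hx, j⟩
    obtain ⟨T, hT, l⟩ := exists_syl_le (zpowers_le.2 hx) j.piGrp
    obtain ⟨o, rfl⟩ : ∃ o, T = cj (φ o) Q := by
      by_cases e : T = Q
      · exact ⟨none, by simpa [φ] using e⟩
      obtain ⟨q, hq, rfl⟩ := r.oth hT e
      exact ⟨some ⟨q, hq⟩, cj_cj _ _ _⟩
    exact ⟨⟨o, _, mem_Om (mem_cj.1 (l (mem_zpowers x))) (by rw [pow_two, (j.conj' _).sq]),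
      (j.conj' _).ne_one⟩, Subtype.ext (by simp [mul_assoc])⟩

theorem Hy.trM (H : Hy N) (m : Soc M) (a c : Ω) : ∃ g ∈ M, g • a = c := by
  by_cases n : a = c
  · exact ⟨1, one_mem _, by rw [one_smul, n]⟩
  obtain ⟨x, hx, x1⟩ := exists_mem_ne_one m.ns.ne
  obtain ⟨p, k⟩ := not_forall.1 fun k => x1 (H.faith x k)
  obtain ⟨g, rfl, rfl⟩ := H.two p (x • p) a c (Ne.symm k) n
  exact ⟨_, m.n.conj_mem x hx g, by rw [mul_smul, mul_smul, inv_smul_smul]⟩

namespace Ns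
variable (H : Ns N)
include H

theorem sc (hS : Syl 2 S (N a)) : SC (𝛀 2 S) ⊤ := by
  obtain ⟨_, _, _, r⟩ := H.rs hS
  obtain ⟨U, hU, l⟩ := exists_syl_le (H.sfix hS) hS.pi
  refine sc_of_syl (H.syl_top hU) ((Om_le _ _).trans l) r.ab fun x hx g _ k => ?_
  by_cases x1 : x = 1
  · simp [x1]
  have i := (ab_iv r.ab hx x1).conj g
  exact mem_Om ((H.normS hU.pi hU.le hS (Om_le _ _ hx) (l (Om_le _ _ hx)) x1).1 (mi k (H.closed i
    (b := g • a) (by rw [H.eqv, conj_mem_cj]; exact hS.le (Om_le _ _ hx)) (hU.le k))))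
    (by rw [pow_two, i.sq])

theorem le_M (m : Soc M) (a : Ω) : N a ≤ M := by
  obtain ⟨S, hS⟩ := exists_syl 2 (N a)
  obtain ⟨_, _, _, r⟩ := H.rs hS
  have := m.n
  have nM : ∀ {X : Subgroup G}, X ≤ 𝐍 M := fun {_} => by rw [normalizer_eq_top]; exact le_top
  refine inf_eq_left.1 (((H.ns a).eq_or _ (normalIn_inf_left nM)).resolve_left fun e => ?_)
  obtain ⟨u, hu, u1⟩ := r.exists_O
  exact u1 (eq_one_of_mem_bot m.c ((H.sc hS).le_cent_of le_top nM (BG.eq_bot_mono e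
    (inf_le_inf_right _ ((Om_le _ _).trans hS.le))) m.ns.O hu))

theorem cnt (m : Soc M) (ht : t ∈ N a) (i : Iv t) : ∃ f, f = (𝐒 a).relIndex (𝐂₁ t ⊓ M) ∧
    f * (𝐂₁ t).relIndex M = {x | x ∈ N a ∧ Iv x}.ncard * Nat.card Ω ∧
      Nat.card Ω - 1 ∣ {x | x ∈ N a ∧ Iv x}.ncard * (f - 1) := by
  have one : ∀ {c x y}, x ∈ N c → y ∈ N c → Iv x → Iv y → ∃ g ∈ N c, g * x * g⁻¹ = y :=
    fun {c x y} hx hy i j => by
      obtain ⟨S, hS⟩ := exists_syl 2 (N c)
      obtain ⟨_, _, _, r⟩ := H.rs hS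
      exact r.one_cl hx hy i j
  have f : (FS Ω (zpowers t)).ncard = (𝐒 a).relIndex (𝐂₁ t ⊓ M) := ZD.ncard_of_trans
    (fun g hg => zpowers_le.2 (H.fix _ (H.mem_cj' ht hg.1))) fun c hc => by
      obtain ⟨g, hg, rfl⟩ := H.trM m a c
      obtain ⟨h, hh, e⟩ := one (c := g • a) (by rw [H.eqv, conj_mem_cj]; exact ht)
        (H.closed i ht (hc (mem_zpowers t))) (i.conj g) i
      exact ⟨h * g, mi (mem_cent1.2 (mul_inv_eq_iff_eq_mul.1 (.trans (by group) e)))
        (mul_mem (H.le_M m _ hh) hg), by rw [mul_smul, H.fix _ hh]⟩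
  refine ⟨_, rfl, ?_, ?_⟩
  · rw [relIndex_inf_mul_relIndex, inf_comm, ← relIndex_inf_mul_relIndex, ← Set.ncard_univ,
      ZD.ncard_of_trans (P := M) (ω := a) (S := Set.univ) (fun _ _ => trivial)
        fun c _ => H.trM m a c,
      ZD.ncard_of_trans_cj (P := 𝐒 a ⊓ M) (x := t) (S := {x | x ∈ N a ∧ Iv x})
        (fun g hg => ⟨conj_mem_of_norm (H.norm hg.1) ht, i.conj g⟩) fun y hy =>
          (one ht hy.1 i hy.2).imp fun g k => ⟨mi (H.fix a k.1) (H.le_M m a k.1), k.2⟩]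
  obtain ⟨b, n⟩ := H.exists_ne a
  rw [← f, dcount (t := {a}ᶜ) (fun x c => x • c = c) (n := {x | (x ∈ N a ∧ Iv x) ∧ x • b = b}.ncard)
    (fun x hx => ?_) fun c hc => ?_, ← Set.ncard_add_ncard_compl {a}, Set.ncard_singleton,
    Nat.add_sub_cancel_left]
  · exact Dvd.intro _ rfl
  · obtain ⟨g, hg, rfl⟩ := one ht hx.1 i hx.2
    rw [← ncard_FS g, cj_zpowers, ← Set.ncard_sdiff_singleton_of_mem (a := a)
      (zpowers_le.2 (H.fix a hx.1))]
    congr 1; ext c; simp [FS, and_comm]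
  · obtain ⟨g, h1, rfl⟩ := H.two a b a c n (Ne.symm hc)
    rw [← Set.ncard_image_of_injective {x | (x ∈ N a ∧ Iv x) ∧ x • b = b} (MulAut.conj g).injective]
    congr 1; ext x
    constructor
    · exact fun hx => ⟨g⁻¹ * x * g, ⟨⟨conj_mem_of_norm' (H.norm h1) hx.1.1, hx.1.2.conj' g⟩, by
        rw [mul_smul, mul_smul, hx.2, inv_smul_smul]⟩, by simp [mul_assoc]⟩
    · rintro ⟨x, hx, rfl⟩
      exact ⟨⟨conj_mem_of_norm (H.norm h1) hx.1.1, hx.1.2.conj g⟩, by
        rw [MulAut.conj_apply, mul_smul, mul_smul, inv_smul_smul, hx.2]⟩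

theorem idx_le (m : Soc M) (ht : t ∈ N a) (i : Iv t) (k : ¬ M ⊓ 𝐂₁ t ≤ 𝐒 a) :
    (𝐂₁ t).relIndex M ≤ {x | x ∈ N a ∧ Iv x}.ncard ^ 2 := by
  obtain ⟨f, f1, f2, f3⟩ := H.cnt m ht i
  have := one_lt_relIndex (inf_comm M _ ▸ k)
  have i0 := (Set.ncard_pos (s := {x | x ∈ N a ∧ Iv x})).2 ⟨t, ht, i⟩
  have := Nat.le_of_dvd (Nat.mul_pos i0 (by omega)) f3
  generalize {x | x ∈ N a ∧ Iv x}.ncard = j at *
  obtain ⟨f, rfl⟩ : ∃ j, f = j + 1 := ⟨f - 1, by omega⟩
  rw [Nat.add_sub_cancel] at this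
  refine Nat.le_of_mul_le_mul_left (c := f + 1) (f2.le.trans ?_) (by omega)
  have : Nat.card Ω ≤ j * (f + 1) := by rw [mul_add_one]; omega
  nlinarith

theorem main (m : Soc M) (a : Ω) :
    Nat.card Ω = 11 ∧ JR.IsL 11 M ∧ Nonempty (N a ≃* alternatingGroup (Fin 5)) := by
  obtain ⟨S, hS⟩ := exists_syl 2 (N a)
  obtain ⟨D, w, z, r⟩ := H.rs hS
  have lM := H.le_M m a
  have lS := hS.le.trans lM
  obtain ⟨b, n⟩ := H.exists_ne a
  have nM : ¬ M ≤ 𝐒 a := fun k => n (H.nfix ((H.le_M m b).trans k)).symm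
  have sc := (H.sc hS).mono ((Om_le _ _).trans lS) le_top
  obtain ⟨u, hu, u1⟩ := r.exists_O
  obtain ⟨U, hU, l⟩ := exists_syl_le (H.sfix hS) hS.pi
  have hV := (H.syl_top hU).inf_normal (normalIn_top.2 m.n)
  have lV : S ≤ U ⊓ M := le_inf l lS
  have ci := card_iv r
  have c4 := r.four
  rcases gold (.inl ly) m.ns.top sc.sub (fun e => u1 (eq_one_of_mem_bot ((map_subgroupOf
    sc.le).symm.trans (map_eq_bot' e)) hu)) with k | k | k
  · obtain ⟨V, hV'⟩ := exists_syl 2 (⊤ : Subgroup M)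
    obtain ⟨_, _, _, r1⟩ := k.rs m.ns.top hV'
    have r1 := r1.map M.subtype_injective
    rw [map_top_subtype] at r1
    obtain ⟨_, _, _, r1⟩ := r1.to_syl hV
    have l1 := inf_le_left.trans hU.le (a := U ⊓ M)
    refine (nM (r1.gen m.ns l1 (hV.cj_of_mem (lM r.wL)) (fun e => r.wn ?_)
      (cj_le_of_mem (H.fix a r.wL) l1))).elim
    have e1 : U ⊓ M ⊓ N a = S := le_antisymm (H.normS hV.pi l1 hS (Om_le _ _ hu)
      (lV (Om_le _ _ hu)) u1).1 (le_inf lV hS.le)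
    rw [← e1]
    exact norm_inf (zpowers_le.2 (cj_eq_self.1 e)) (norm_of_le (zpowers_le.2 r.wL)) (mem_zpowers w)
  · obtain ⟨F, _, _, q8, o, q3, e⟩ := k.psl m.ns.top
    have L : JR.IsL (Fintype.card F) M := ⟨F, _, _, rfl, e⟩
    obtain ⟨V, hV', c⟩ := k.map M.subtype_injective
    rw [map_top_subtype] at hV'
    have s4 : ♯S = 4 := le_antisymm (c ▸ hV'.card_le lS hS.pi) (c4.trans (card_le (Om_le _ _)))
    have eO : 𝛀 2 S = S := eq_of_card_le (Om_le _ _) (by omega)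
    have a5 := a5_of_ti (H.ns a) hS s4 fun v hv v1 => r.cent1 hv v1
    have c60 := card_a5 a5.some
    obtain ⟨t, ht, t1, k⟩ : ∃ t ∈ S, t ≠ 1 ∧ ¬ M ⊓ 𝐂₁ t ≤ 𝐒 a := by
      by_contra! k
      obtain ⟨e⟩ := a5_of_ti m.ns (hV'.of_card lS (s4.trans c.symm)) s4
        fun v hv v1 g hg => H.nrm_of (k v hv v1 hg) hS hv v1 hg.2
      exact nM (eq_of_card_eq lM (c60.trans (card_a5 e).symm) ▸ H.fix a)
    have i := ab_iv r.ab (eO.ge ht) t1
    have h1 := H.idx_le m (hS.le ht) i k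
    obtain ⟨f, -, f2, f3⟩ := H.cnt m (hS.le ht) i
    rw [ci, eO, s4] at h1 f2 f3
    have h2 := L.card o
    have h3 := L.card_iv o (lS ht) i
    have h4 := card_inf_mul_relIndex (𝐂₁ t) M
    have h5 : 4 ∣ ♯(M ⊓ 𝐂₁ t) := s4 ▸ BG.card_dvd (le_inf lS (le_cent1_iff.2 (r.cen (eO.ge ht))))
    have h6 := card_inf_mul_relIndex (𝐒 a) M
    rw [← ZD.ncard_of_trans (P := M) (ω := a) (S := Set.univ) (fun _ _ => trivial)
      (fun c _ => H.trM m a c), Set.ncard_univ] at h6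
    obtain ⟨j, h7⟩ : 60 ∣ ♯(𝐒 a ⊓ M) := c60 ▸ BG.card_dvd (le_inf (H.fix a) lM)
    have h8 : 1 < Nat.card Ω := Finite.one_lt_card_iff_nontrivial.2 ⟨a, b, n⟩
    rw [inf_comm] at h4
    rw [h7] at h6
    suffices Nat.card Ω = 11 ∧ Fintype.card F = 11 from ⟨this.1, this.2 ▸ L, a5⟩
    generalize Fintype.card F = q at *
    generalize ♯(M ⊓ 𝐂₁ t) = C at *
    generalize (𝐂₁ t).relIndex M = x at *
    generalize Nat.card Ω = n at *
    rw [← h4] at h6 h2
    rw [mul_assoc] at h6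
    have hn : ∀ {k}, j * n = k + 1 → n ≤ k + 1 := fun e => Nat.le_of_dvd (by omega) (Dvd.intro_left _ e)
    have : q ≤ 21 := by
      by_contra! k
      obtain ⟨q, rfl⟩ : ∃ j, q = j + 1 := ⟨q - 1, by omega⟩
      rw [show (q + 1) ^ 2 - 1 = q * (q + 2) by rw [Nat.sub_eq_iff_eq_add (Nat.one_le_pow _ _ (by omega))]; ring] at h2
      have : C * x ≤ (q + 2) * 225 := Nat.mul_le_mul (by omega) h1
      have : (q + 2) * (22 * 21) ≤ (q + 2) * ((q + 1) * q) :=
        Nat.mul_le_mul_left _ (Nat.mul_le_mul k (by omega))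
      nlinarith
    have : q = 5 ∨ q = 11 ∨ q = 13 ∨ q = 19 ∨ q = 21 := by omega
    rcases this with rfl | rfl | rfl | rfl | rfl
    · obtain rfl : C = 4 := by omega
      have := hn (k := 0) (by omega); omega
    · obtain rfl : C = 12 := by omega
      obtain rfl : x = 55 := by omega
      have := hn (k := 10) (by omega); omega
    · obtain rfl : C = 12 := by omega
      omega
    · obtain rfl : C = 20 := by omega
      obtain rfl : x = 171 := by omega
      have := hn (k := 56) (by omega)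
      obtain rfl : n = 57 := by omega
      obtain rfl : f = 5 := by omega
      omega
    · obtain rfl : C = 20 := by omega
      obtain rfl : x = 231 := by omega
      have := hn (k := 76) (by omega)
      obtain rfl : n = 77 := by omega
      obtain rfl : f = 5 := by omega
      omega
  · exfalso
    have j := k.map M.subtype_injective
    rw [map_top_subtype] at j
    obtain ⟨V, hV', ab, c, tr⟩ := j.syl
    obtain ⟨g, hg, rfl⟩ := hV.syl_conj hV'
    have e1 : 𝛀 2 S = U ⊓ M := by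
      have l1 := (Om_le 2 _).trans lV
      refine le_antisymm l1 fun y hy => ?_
      by_cases y1 : y = 1
      · exact y1 ▸ one_mem _
      obtain ⟨x, hx, e⟩ := tr _ (conj_mem_cj.2 (l1 hu)) (conj_ne_one u1 g) _ (conj_mem_cj.2 hy)
        (conj_ne_one y1 g)
      have e2 : g⁻¹ * x * g * u * (g⁻¹ * x * g)⁻¹ = y := by
        calc _ = g⁻¹ * (x * (g * u * g⁻¹) * x⁻¹) * g := by group
          _ = _ := by rw [e]; group
      exact e2 ▸ sc.mem hV.pi l1 hV.le hu (cmem' hg hx.1) (e2 ▸ hy)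
    rw [card_cj, ← e1] at c
    have eO : 𝛀 2 S = S := (Om_le _ _).antisymm (e1 ▸ lV)
    rw [c, ← eO, c] at ci
    have i := ab_iv r.ab hu u1
    have uN := hS.le (Om_le _ _ hu)
    obtain ⟨K, nK, ns, -, cK⟩ := (j.cent u (lM uN) i).ex
    have l2 : S ≤ M ⊓ 𝐂₁ u := le_inf lS (le_cent1_iff.2 (r.cen hu))
    have h1 := H.idx_le m uN i fun k => by
      rcases ns.le_or_cent (fun g hg => H.nrm_of (k (nK.le hg)) hS (Om_le _ _ hu) u1 (nK.le hg).2)
        (l2.trans nK.norm) with k | k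
      · exact ns.not_abel ((eO ▸ r.ab.abel).mono k)
      · have := card_le ((le_inf l2 (cent_symm k)).trans cK)
        rw [i.card, ← eO] at this; omega
    obtain ⟨t, K, q, q3, J, k | ⟨-, -, k⟩⟩ := JR.jr_cases m.ns.top k
    · obtain ⟨g, e⟩ := isConj_iff.1 (J.one t ⟨u, lM uN⟩ J.iv (by
        rw [Iv, Subgroup.orderOf_mk]; exact i))
      have e3 : (𝐂₁ u).relIndex M = (𝐂₁ t).index := by
        rw [← index_cj g, cj_cent1, e, relIndex]
        congr 1; ext x; rw [mem_subgroupOf, mem_cent1, mem_cent1, Subtype.ext_iff]; rfl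
      obtain ⟨n, o, rfl⟩ := k.q3
      rw [e3, k.idx, ci] at h1
      have : 27 ≤ 3 ^ n := by
        obtain ⟨n, rfl⟩ := o
        rcases n with _ | n
        · norm_num at q3
        · exact Nat.pow_le_pow_right (n := 3) (by norm_num) (by omega : 3 ≤ _)
      generalize 3 ^ n = q at *
      have : 27 * q ≤ q ^ 2 := by nlinarith
      have := Nat.mul_le_mul (by omega : 729 ≤ q ^ 2) (by omega : 7 ≤ q ^ 2 - q + 1)
      omega
    · have h2 := card_inf_mul_relIndex (𝐂₁ u) (N a)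
      rw [← ZD.ncard_of_trans_cj (P := N a) (x := u) (S := {x | x ∈ N a ∧ Iv x})
        (fun g hg => ⟨cmem hg uN, i.conj g⟩) (fun y hy => r.one_cl uN hy.1 i hy.2), ci] at h2
      have := (Dvd.intro_left _ h2).trans (BG.card_dvd lM)
      rw [k] at this
      omega

end Ns
end CF.Hir
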