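/-
Hiramine's theorem: doubly transitive groups whose point stabilizer has a normal Bender subgroup.
-/
import Cfsg.Agent.Hir.I
import Cfsg.Agent.Perm.EqF
import Cfsg.Agent.Perm.BinSE
import Cfsg.Agent.Perm.SharpK
import Cfsg.Agent.S0679
import Cfsg.Agent.S0283
import Cfsg.Agent.S1162
set_option autoImplicit false
set_option linter.unusedSectionVars false

namespace CF.Hir
open Subgroup MulAction Cfsg CF.BG CF.Sig CF.GW CF.Ab2
open scoped commutatorElement MatrixGroups

universe u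
variable {G : Type u} {Ω : Type*} [Group G] [Finite G] [MulAction G Ω] [Finite Ω] {N : Ω → Subgroup G}
variable {K L M : Subgroup G} {a : Ω}

local notation "𝐒" => MulAction.stabilizer G

theorem ns_of_se (s : IsSimpleGroup L) (h : SEs L) : NS L := ns_of_simple s fun c => by
  obtain ⟨H, h1, h2, h3⟩ := h
  obtain ⟨g, -, k⟩ := SetLike.not_le_iff_exists.1 fun k : ⊤ ≤ H => h1 (top_le_iff.1 k)
  have := h3 g k
  rw [← cj_def, cj_of_cent (fun x _ => Subtype.ext (c.mul_comm x.2 g.2)), inf_idem] at this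
  exact (Nat.not_even_iff_odd.2 this) h2

theorem bender (hN : ∃ (F : Type) (_ : Field F) (_ : Fintype F) (m : ℕ), Fintype.card F = 2 ^ m ∧
    2 ≤ m ∧ (Nonempty (L ≃* PSL(2, F)) ∨ (Odd m ∧ Nonempty (L ≃* Lie.Sz F (2 ^ ((m + 1) / 2)))) ∨
      ∃ (K : Type) (_ : Field K) (_ : Fintype K), Fintype.card K = (2 ^ m) ^ 2 ∧
        Nonempty (L ≃* PSU 3 K (2 ^ m)))) : IsSimpleGroup L ∧ SEs L := by
  have ch : ∀ {F : Type} [Field F] [Fintype F] {n}, Fintype.card F = 2 ^ n → CharP F 2 :=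
    fun {F _ _ n} h => by
      have := FiniteField.cast_card_eq_zero F
      rw [h, Nat.cast_pow] at this
      exact (CharP.ringChar_of_prime_eq_zero Nat.prime_two (pow_eq_zero_iff'.1 this).1) ▸
        ringChar.charP F
  obtain ⟨F, _, _, m, c, m2, ⟨⟨e⟩⟩ | ⟨⟨k, rfl⟩, ⟨e⟩⟩ | ⟨K, _, _, c', ⟨e⟩⟩⟩ := hN
  · have := ch c
    have := Classical.isSimpleGroup_PSL2 (F := F) (by
      rw [Nat.card_eq_fintype_card, c]; exact Nat.pow_le_pow_right (n := 2) two_pos m2)
    exact ⟨e.isSimpleGroup, Perm.se_equiv Perm.se_sl2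
      (e.trans (Classical.slEquivPSL (CharP.cast_eq_zero F 2)).symm)⟩
  · rw [show (2 * k + 1 + 1) / 2 = k + 1 by omega] at e
    have := Cfsg.Agent.S1162.result (by omega) c
    exact ⟨e.isSimpleGroup, Perm.se_equiv (Perm.se_sz (by omega) c) e⟩
  · have := ch (c'.trans (pow_mul 2 m 2).symm)
    have := Cfsg.Agent.S0283.result c' 3 le_rfl fun k => by
      have := Nat.pow_le_pow_right (n := 2) two_pos m2; omega
    exact ⟨e.isSimpleGroup, Perm.se_equiv (Perm.se_su3 (by omega)) e⟩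

theorem psl4 (e : Nonempty (L ≃* alternatingGroup (Fin 5))) : ∃ (F : Type) (_ : Field F)
    (_ : Fintype F), Fintype.card F = 4 ∧ Nonempty (L ≃* PSL(2, F)) := by
  have := Fact.mk p2
  have c : Nat.card (GaloisField 2 2) = 4 := GaloisField.card 2 2 two_ne_zero
  exact ⟨GaloisField 2 2, _, Fintype.ofFinite _, by rw [← c, @Nat.card_eq_fintype_card _ (Fintype.ofFinite _)],
    ⟨e.some.trans (Classical.PSL2_four_equiv c).some.symm⟩⟩

theorem deg6 [FaithfulSMul G Ω] (c : Nat.card Ω = 6) (h : 360 ≤ Nat.card G) :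
    Nonempty (G ≃* alternatingGroup (Fin 6)) ∨ Nonempty (G ≃* Equiv.Perm (Fin 6)) := by
  let φ : G →* Equiv.Perm (Fin 6) :=
    (Finite.equivFinOfCardEq c).permCongrHom.toMonoidHom.comp (toPermHom G Ω)
  have i : Function.Injective φ := 
    (Finite.equivFinOfCardEq c).permCongrHom.injective.comp (toPerm_injective (α := G))
  have e := MonoidHom.ofInjective i
  have := φ.range.card_mul_index
  rw [← Nat.card_congr e.toEquiv, Nat.card_perm, Nat.card_fin] at this
  have k : φ.range.index = 2 ∨ φ.range.index = 1 := by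
    have : φ.range.index ≤ 2 := by
      by_contra! k
      have := Nat.mul_le_mul h k
      norm_num [Nat.factorial] at *; omega
    have := φ.range.index_ne_zero_of_finite
    omega
  refine k.imp (fun k => ?_) fun k => ?_
  · exact ⟨e.trans (MulEquiv.subgroupCongr (Equiv.Perm.eq_alternatingGroup_of_index_eq_two k))⟩
  · exact ⟨e.trans ((MulEquiv.subgroupCongr (index_eq_one.1 k)).trans topEquiv)⟩

theorem deg11 [FaithfulSMul G Ω] [IsPretransitive G Ω] (c : Nat.card Ω = 11) (m : Soc M)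
    (l : JR.IsL 11 M) : ∃ (F : Type) (_ : Field F) (_ : Fintype F), Fintype.card F = 11 ∧
      Nonempty (G ≃* PSL(2, F)) := by
  classical
  have := Fintype.ofFinite Ω
  have i : Function.Injective (toPermHom G Ω) := toPerm_injective
  have e := MonoidHom.ofInjective i
  have : IsPretransitive (toPermHom G Ω).range Ω := ⟨fun x y => by
    obtain ⟨g, h⟩ := exists_smul_eq G x y
    exact ⟨⟨_, g, rfl⟩, h⟩⟩
  have hA : ¬ alternatingGroup Ω ≤ (toPermHom G Ω).range := fun k => by
    have s := alternatingGroup.isSimpleGroup (α := Ω) (by omega)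
    have cA : 2 * ♯(alternatingGroup Ω) = Nat.factorial 11 := by
      have : Nontrivial Ω := Finite.one_lt_card_iff_nontrivial.1 (by omega)
      rw [two_mul_nat_card_alternatingGroup, Nat.card_perm, c]
    have cM := l.card (by decide)
    have l1 : M.map (toPermHom G Ω) ≤ alternatingGroup Ω := map_le_iff_le_comap.2 (m.min _ inferInstance
      fun e => by
        have := card_map (H := comap (toPermHom G Ω) (alternatingGroup Ω)) i
        rw [map_comap_eq_self k, e, card_bot] at this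
        rw [this] at cA; norm_num [Nat.factorial] at cA)
    have n : M.map (toPermHom G Ω) ⊴ alternatingGroup Ω := ((normalIn_top.2 m.n).map _).of_le l1
      (by rwa [← MonoidHom.range_eq_map])
    rcases n.normal.eq_bot_or_eq_top with e | e
    · exact m.ns.ne ((map_eq_bot_iff_of_injective _ i).1 ((map_subgroupOf l1).symm.trans (map_eq_bot' e)))
    · rw [← l1.antisymm (subgroupOf_eq_top.1 e), card_map i] at cA
      norm_num [Nat.factorial] at cA cM; omega
  rcases Cfsg.Agent.S0679.result (by rw [← c, Nat.card_eq_fintype_card]) (toPermHom G Ω).range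
    (fun k => m.ns.not_sol (by
      have := Group.isSolvable_of_isSolvable_injective (f := e.toMonoidHom) e.injective
      infer_instance)) hA with k | ⟨⟨k⟩⟩
  · have := Perm.isSimpleGroup_eleven c k.1 k.2
    have := e.isSimpleGroup
    obtain rfl := m.n.eq_bot_or_eq_top.resolve_left m.ns.ne
    obtain ⟨F, _, _, c, ⟨f⟩⟩ := l
    exact ⟨F, _, _, c, ⟨topEquiv.symm.trans f⟩⟩
  · have : Fact (Nat.Prime 11) := ⟨by norm_num⟩
    exact ⟨ZMod 11, _, _, ZMod.card 11, ⟨e.trans k⟩⟩

theorem main [FaithfulSMul G Ω] (h2 : IsMultiplyPretransitive G Ω 2) (l : L ≤ 𝐒 a)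
    (n : ∀ g ∈ 𝐒 a, ∀ x ∈ L, g * x * g⁻¹ ∈ L) (s : IsSimpleGroup L) (se : SEs L) (hr : ¬ EqF.Reg G Ω) :
    Nonempty (L ≃* alternatingGroup (Fin 5)) ∧ (Nat.card Ω = 6 ∧
      (Nonempty (G ≃* alternatingGroup (Fin 6)) ∨ Nonempty (G ≃* Equiv.Perm (Fin 6))) ∨
      Nat.card Ω = 11 ∧ ∃ (F : Type) (_ : Field F) (_ : Fintype F), Fintype.card F = 11 ∧
        Nonempty (G ≃* PSL(2, F))) := by
  have ns := ns_of_se s se
  have two := Perm.twoTrans_iff.1 h2
  have tr : ∀ c : Ω, ∃ g : G, g • a = c := fun c => by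
    by_cases e : a = c
    · exact ⟨1, by rw [one_smul, e]⟩
    · exact (two a c c a e (Ne.symm e)).imp fun _ h => h.1
  choose γ hγ using tr
  have key : ∀ {g : G} {c}, g • a = c → cj (γ c) L = cj g L := fun {g c} e => by
    rw [cj_eq_iff, cj_cj, cj_of_norm (le_norm_iff.2 n (by
      rw [mem_stabilizer_iff, mul_smul, e, inv_smul_eq_iff, hγ]))]
  have H : Hy fun c => cj (γ c) L := ⟨two, fun g h => eq_of_smul_eq_smul fun x : Ω => by
      rw [h, one_smul], fun g c => by rw [cj_cj]; exact key (by rw [mul_smul, hγ]),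
    fun c => by simpa only [hγ] using cj_le_stab (g := γ c).2 l, fun c => ns.cj _,
    fun c => Perm.se_equiv se (equivMapOfInjective L _ (conj_inj (γ c))).symm⟩
  have ea : cj (γ a) L = L := (key (one_smul G a)).trans (cj_one L)
  have : Nontrivial G := by
    obtain ⟨x, -, x1⟩ := exists_mem_ne_one ns.ne
    exact ⟨x, 1, x1⟩
  obtain ⟨M, m1, -, m2, m3, m4, m5, -⟩ := EqF.socle h2 hr
  have m : Soc M := ⟨m1, ns_of_simple m4 fun k => m5 k.comm, m3, m2⟩
  have : IsPretransitive G Ω := ⟨H.tr⟩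
  by_cases k : ∃ b c S, b ≠ c ∧ Syl 2 S (cj (γ b) L) ∧ S ≤ 𝐒 c
  · obtain ⟨b, c, S, n, hS, lS⟩ := k
    obtain ⟨c6, e⟩ := Sg.main ⟨H, fun b' c' n' => by
      obtain ⟨g, rfl, rfl⟩ := two b c b' c' n n'
      exact ⟨_, H.syl_cj hS g, cj_le_stab.2 lS⟩⟩ m a
    rw [ea] at e
    refine ⟨e, .inl ⟨c6, deg6 c6 ?_⟩⟩
    have := card_le l
    rw [← (𝐒 a).card_mul_index, index_stabilizer_of_transitive, c6, card_a5 e.some] at *
    omega
  · obtain ⟨c, l, e⟩ := Ns.main ⟨H, fun b c S hS l => by_contra fun n => k ⟨b, c, S, n, hS, l⟩⟩ m a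
    rw [ea] at e
    exact ⟨e, .inr ⟨c, deg11 c m l⟩⟩

end CF.Hir
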